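import Cfsg.Agent.Lib.CIT.Basic
import Cfsg.Agent.Lib.Orders.EPPO
import Cfsg.Agent.Lib.Recog.PSLTwoOrders
import Cfsg.Agent.Lib.Classical.Dickson.MaxExist
import Cfsg.Prelude.Def_LieExceptional
import Cfsg.Agent.S0183
import Cfsg.Agent.S0144

/-!
# Element orders powers of two or primes other than five: first consequences and arithmetic
-/

set_option autoImplicit false
set_option linter.all false

namespace CfsgLib.Recog.SevenOrders

open Subgroup

universe u v

/-- Every nonidentity element has 2-power order or prime order different from five. -/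
def Ord (G : Type*) [Group G] : Prop :=
  ∀ g : G, g ≠ 1 → (∃ k : ℕ, orderOf g = 2 ^ k) ∨ ((orderOf g).Prime ∧ orderOf g ≠ 5)

variable {G : Type u} [Group G]

theorem Ord.subgroup (h : Ord G) (H : Subgroup G) : Ord H := fun g hg => by
  rw [← Subgroup.orderOf_coe]
  exact h g fun e => hg (Subtype.ext e)

theorem Ord.of_surjective {H : Type v} [Group H] (h : Ord G) (f : G →* H) (hf : Function.Surjective f) :
    Ord H := by
  intro y hy
  obtain ⟨g, rfl⟩ := hf y
  have hg : g ≠ 1 := fun e => hy (by rw [e, map_one])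
  have hdvd := orderOf_map_dvd f g
  rcases h g hg with ⟨k, hk⟩ | ⟨hp, h5⟩
  · obtain ⟨j, -, hj⟩ := (Nat.dvd_prime_pow Nat.prime_two).1 (hk ▸ hdvd)
    exact Or.inl ⟨j, hj⟩
  · rcases hp.eq_one_or_self_of_dvd _ hdvd with e | e
    · exact absurd (orderOf_eq_one_iff.1 e) hy
    · exact Or.inr (by rw [e]; exact ⟨hp, h5⟩)

theorem Ord.isPrimePow (h : Ord G) (g : G) (hg : g ≠ 1) : IsPrimePow (orderOf g) := by
  rcases h g hg with ⟨k, hk⟩ | ⟨hp, -⟩
  · rw [hk]
    refine ⟨2, k, Nat.prime_two.prime, Nat.pos_of_ne_zero fun h0 => hg ?_, rfl⟩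
    rw [h0, pow_zero] at hk
    exact orderOf_eq_one_iff.1 hk
  · exact hp.isPrimePow

variable [Finite G]

theorem Ord.not_five (h : Ord G) : ¬ 5 ∣ Nat.card G := by
  intro h5
  haveI : Fact (Nat.Prime 5) := ⟨by norm_num⟩
  obtain ⟨g, hg⟩ := exists_prime_orderOf_dvd_card' 5 h5
  rcases h g (fun e => by rw [e, orderOf_one] at hg; norm_num at hg) with ⟨k, hk⟩ | ⟨-, h5'⟩
  · rw [hg] at hk
    have : (5 : ℕ) ∣ 2 := Nat.Prime.dvd_of_dvd_pow (by norm_num : Nat.Prime 5) (dvd_of_eq hk)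
    norm_num at this
  · exact h5' hg

/-- Elements commuting with an element of odd prime order have that order. -/
theorem Ord.pow_eq_one (h : Ord G) {p : ℕ} (hp : p.Prime) (hp2 : p ≠ 2) {x y : G} (hx : orderOf x = p)
    (hc : Commute y x) : y ^ p = 1 := by
  by_cases hy : y = 1
  · rw [hy, one_pow]
  rcases h y hy with ⟨k, hk⟩ | ⟨hr, -⟩
  · exact (Orders.eppo_commute h.isPrimePow Nat.prime_two hp hp2.symm hy (i := k)
      (hk ▸ pow_orderOf_eq_one y) hx hc).elim
  · by_cases he : orderOf y = p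
    · exact he ▸ pow_orderOf_eq_one y
    · exact (Orders.eppo_commute h.isPrimePow hr hp he hy (i := 1)
        (by rw [pow_one, pow_orderOf_eq_one]) hx hc).elim

theorem Ord.centralizer_isPGroup (h : Ord G) {p : ℕ} (hp : p.Prime) (hp2 : p ≠ 2) {x : G}
    (hx : orderOf x = p) : IsPGroup p (centralizer ({x} : Set G)) := fun y =>
  ⟨1, Subtype.ext (by
    rw [pow_one, coe_pow, coe_one]
    exact h.pow_eq_one hp hp2 hx (mem_centralizer_singleton_iff.1 y.2))⟩

theorem Ord.cit (h : Ord G) : CIT.CIT G := by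
  intro t ht c
  by_cases hc : (c : G) = 1
  · exact ⟨0, Subtype.ext (by simp [hc])⟩
  rcases h c hc with ⟨k, hk⟩ | ⟨hr, -⟩
  · exact ⟨k, Subtype.ext (by rw [coe_pow, coe_one, ← hk, pow_orderOf_eq_one])⟩
  · by_cases he : orderOf (c : G) = 2
    · exact ⟨1, Subtype.ext (by rw [coe_pow, coe_one, pow_one, ← he, pow_orderOf_eq_one])⟩
    · exact (Orders.eppo_commute h.isPrimePow hr Nat.prime_two he hc (i := 1)
        (by rw [pow_one, pow_orderOf_eq_one]) ht (mem_centralizer_singleton_iff.1 c.2)).elim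

theorem Ord.isSolvable_of_odd (h : Ord G) (hodd : Odd (Nat.card G)) : Group.IsSolvable G := by
  refine Cfsg.Agent.S0183.result hodd fun g hg => ?_
  rcases h g hg with ⟨k, hk⟩ | ⟨hp, -⟩
  · exfalso
    have h1 : Odd (orderOf g) := hodd.of_dvd_nat (orderOf_dvd_natCard g)
    rw [hk] at h1
    rcases k with _ | k
    · exact hg (orderOf_eq_one_iff.1 (by simpa using hk))
    · exact Nat.not_odd_iff_even.2 (even_two.pow_of_ne_zero k.succ_ne_zero) h1
  · haveI := Fact.mk hp
    have h2 : orderOf g ≠ 2 := fun e => by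
      have := hodd.of_dvd_nat (orderOf_dvd_natCard g)
      rw [e] at this
      exact absurd this (by decide)
    exact (h.centralizer_isPGroup hp h2 rfl).isNilpotent

theorem even_card_of_not_isSolvable (h : Ord G) (hns : ¬ Group.IsSolvable G) : Even (Nat.card G) := by
  by_contra he
  exact hns (h.isSolvable_of_odd (Nat.not_even_iff_odd.1 he))

/-- An admissible number. -/
def Adm (C : ℕ) : Prop := (∃ k, C = 2 ^ k) ∨ (C.Prime ∧ C ≠ 5)

theorem Adm.eq_three {C : ℕ} (hC : Adm C) (h : 3 ∣ C) : C = 3 := by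
  rcases hC with ⟨k, rfl⟩ | ⟨hC, -⟩
  · exact absurd (Nat.prime_three.dvd_of_dvd_pow h) (by norm_num)
  · exact ((Nat.prime_dvd_prime_iff_eq Nat.prime_three hC).1 h).symm

theorem Adm.exists_pow {C : ℕ} (hC : Adm C) (he : Even C) : ∃ k, C = 2 ^ k := by
  rcases hC with hk | ⟨hC, -⟩
  · exact hk
  · exact ⟨1, by rw [pow_one, (hC.even_iff).1 he]⟩

theorem Adm.ne_five {C : ℕ} (hC : Adm C) : C ≠ 5 := by
  rcases hC with ⟨k, rfl⟩ | ⟨-, h⟩
  · intro h5
    have : (5 : ℕ) ∣ 2 := Nat.Prime.dvd_of_dvd_pow (by norm_num : Nat.Prime 5) (dvd_of_eq h5.symm)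
    norm_num at this
  · exact h

theorem three_pow_even_mod (j : ℕ) : (3 : ℕ) ^ (2 * j) % 8 = 1 := by
  rw [pow_mul, Nat.pow_mod]; norm_num

theorem four_dvd_two_pow {i : ℕ} (h : 2 < 2 ^ i) : 4 ∣ 2 ^ i := by
  have : 2 ≤ i := by
    by_contra h'
    interval_cases i <;> simp at h
  exact (show (4:ℕ) = 2 ^ 2 by norm_num) ▸ pow_dvd_pow 2 this

/-- Powers of three next to powers of two. -/
theorem three_pow_pred_two_pow {n i : ℕ} (h : 3 ^ n = 2 ^ i + 1) : n ≤ 2 := by
  by_contra hn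
  have h27 : 27 ≤ 3 ^ n := by
    simpa using Nat.pow_le_pow_right (show 1 ≤ 3 by norm_num) (show 3 ≤ n by omega)
  obtain ⟨j, hj⟩ | ⟨j, hj⟩ := Nat.even_or_odd n
  · rw [← two_mul] at hj
    have hj2 : 2 ≤ j := by omega
    have h9 : 9 ≤ 3 ^ j := by simpa using Nat.pow_le_pow_right (show 1 ≤ 3 by norm_num) hj2
    have hd : 2 ^ i = (3 ^ j + 1) * (3 ^ j - 1) := by
      rw [← Nat.sq_sub_sq, one_pow, ← pow_mul, mul_comm j 2, ← hj]; omega
    obtain ⟨a, -, ha⟩ := (Nat.dvd_prime_pow Nat.prime_two).1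
      (hd ▸ dvd_mul_right _ _ : 3 ^ j + 1 ∣ 2 ^ i)
    obtain ⟨b, -, hb⟩ := (Nat.dvd_prime_pow Nat.prime_two).1
      (hd ▸ dvd_mul_left _ _ : 3 ^ j - 1 ∣ 2 ^ i)
    have h1 := four_dvd_two_pow (i := a) (by omega)
    have h2 := four_dvd_two_pow (i := b) (by omega)
    omega
  · have hm : 3 ^ n % 8 = 3 := by rw [hj, pow_succ, Nat.mul_mod, three_pow_even_mod j]
    have h1 := four_dvd_two_pow (i := i) (by omega)
    omega

theorem three_pow_succ_two_pow {n i : ℕ} (h : 3 ^ n + 1 = 2 ^ i) : n ≤ 1 := by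
  by_contra hn
  have h9 : 9 ≤ 3 ^ n := by simpa using Nat.pow_le_pow_right (show 1 ≤ 3 by norm_num) (show 2 ≤ n by omega)
  have h8 : 8 ∣ 2 ^ i := by
    have : 3 ≤ i := by
      by_contra h'
      interval_cases i <;> simp at h <;> omega
    exact (show (8:ℕ) = 2 ^ 3 by norm_num) ▸ pow_dvd_pow 2 this
  obtain ⟨j, hj⟩ | ⟨j, hj⟩ := Nat.even_or_odd n
  · have hm : 3 ^ n % 8 = 1 := by rw [hj, ← two_mul, three_pow_even_mod j]
    omega
  · have hm : 3 ^ n % 8 = 3 := by rw [hj, pow_succ, Nat.mul_mod, three_pow_even_mod j]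
    omega

/-- Two divisor conditions force the field of seven elements. -/
theorem eq_seven {q p n A B : ℕ} (hp : p.Prime) (hp5 : p ≠ 5) (hqp : q = p ^ n) (hq : 4 ≤ q)
    (hA : A = (q - 1) / Nat.gcd 2 (q - 1)) (hB : B = (q + 1) / Nat.gcd 2 (q - 1))
    (hgA : Adm A) (hgB : Adm B) : q = 7 := by
  have hpd : ∀ {C : ℕ}, C ∣ q → C.Prime → C = p := fun hd hC =>
    (Nat.prime_dvd_prime_iff_eq hC hp).1 (hC.dvd_of_dvd_pow (hqp ▸ hd))
  rcases Nat.even_or_odd q with he | ho
  · obtain ⟨c, hc⟩ := he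
    have hg : Nat.gcd 2 (q - 1) = 1 := by
      have h2 : Nat.gcd 2 (q - 1) ∣ 2 := Nat.gcd_dvd_left _ _
      rcases (Nat.dvd_prime Nat.prime_two).1 h2 with e | e
      · exact e
      · have h3 : 2 ∣ q - 1 := e ▸ Nat.gcd_dvd_right _ _
        omega
    rw [hg, Nat.div_one] at hA hB
    have hp2 : p = 2 := (hpd ⟨c, by omega⟩ Nat.prime_two).symm
    have h3q : q % 3 ≠ 0 := by
      intro h
      have h' := hpd (Nat.dvd_of_mod_eq_zero h) Nat.prime_three
      omega
    rcases (show 3 ∣ A ∨ 3 ∣ B by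
      rcases (show q % 3 = 1 ∨ q % 3 = 2 by omega) with e | e
      · exact Or.inl (by omega)
      · exact Or.inr (by omega)) with h | h
    · have hA3 := hgA.eq_three h
      exact absurd (show B = 5 by omega) hgB.ne_five
    · have hB3 := hgB.eq_three h
      omega
  · obtain ⟨c, hc⟩ := ho
    have hg : Nat.gcd 2 (q - 1) = 2 := Nat.gcd_eq_left ⟨c, by omega⟩
    rw [hg] at hA hB
    have hA' : A = c := by omega
    have hB' : B = c + 1 := by omega
    by_cases h3 : q % 3 = 0
    · have hp3 : p = 3 := (hpd (Nat.dvd_of_mod_eq_zero h3) Nat.prime_three).symm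
      rw [hp3] at hqp
      rcases Nat.even_or_odd A with hev | hod
      · obtain ⟨i, hi⟩ := hgA.exists_pow hev
        have hn := three_pow_pred_two_pow (n := n) (i := i + 1) (by rw [← hqp, pow_succ]; omega)
        interval_cases n
        · simp at hqp; omega
        · simp at hqp; omega
        · exact absurd (show B = 5 by norm_num at hqp; omega) hgB.ne_five
      · obtain ⟨i, hi⟩ := hgB.exists_pow (hB'.symm ▸ hA' ▸ hod.add_one)
        have hn := three_pow_succ_two_pow (n := n) (i := i + 1) (by rw [← hqp, pow_succ]; omega)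
        interval_cases n <;> simp at hqp <;> omega
    · rcases (show 3 ∣ A ∨ 3 ∣ B by
        rcases (show q % 3 = 1 ∨ q % 3 = 2 by omega) with e | e
        · exact Or.inl (by omega)
        · exact Or.inr (by omega)) with h | h
      · have hA3 := hgA.eq_three h
        omega
      · have hB3 := hgB.eq_three h
        exact absurd (hpd ⟨1, by omega⟩ (show Nat.Prime 5 by norm_num)).symm hp5

/-- The projective special linear groups occurring. -/
theorem psl_card {F : Type} [Field F] [Fintype F]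
    (h : Ord (Matrix.ProjectiveSpecialLinearGroup (Fin 2) F))
    (hns : ¬ Group.IsSolvable (Matrix.ProjectiveSpecialLinearGroup (Fin 2) F)) :
    Nat.card (Matrix.ProjectiveSpecialLinearGroup (Fin 2) F) = 168 := by
  obtain ⟨p, hpc⟩ := CharP.exists F
  obtain ⟨n, hp, hcard⟩ := FiniteField.card F p
  haveI := Fact.mk hp
  have hcs := CfsgLib.Classical.Two.card_PSL_two (F := F)
  have hq4 : 4 ≤ Fintype.card F := by
    by_contra hlt
    push Not at hlt
    have h1 : 1 < Fintype.card F := Fintype.one_lt_card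
    refine hns ?_
    interval_cases hc : Fintype.card F
    · exact Cfsg.Agent.S0144.result 2 3 1 1 Nat.prime_two Nat.prime_three (by norm_num [hc] at hcs ⊢; omega)
    · exact Cfsg.Agent.S0144.result 2 3 2 1 Nat.prime_two Nat.prime_three (by norm_num [hc] at hcs ⊢; omega)
  have horders := Recog.PSLTwoOrders.range_orderOf (F := F) p hq4
  have hex : ∀ {C : ℕ}, C ∈ Set.range (orderOf : Recog.PSLTwoOrders.L2 F → ℕ) →
      (∃ k, C = 2 ^ k) ∨ (C.Prime ∧ C ≠ 5) := by
    rintro C ⟨g, rfl⟩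
    rcases eq_or_ne g 1 with rfl | hg
    · exact Or.inl ⟨0, orderOf_one⟩
    · exact h g hg
  have hp5 : p ≠ 5 := by
    have := hex (C := p) (by rw [horders]; exact Or.inl rfl)
    rintro rfl
    rcases this with ⟨k, hk⟩ | ⟨-, h5⟩
    · have : (5 : ℕ) ∣ 2 := hp.dvd_of_dvd_pow (dvd_of_eq hk)
      norm_num at this
    · exact h5 rfl
  have h7 := eq_seven hp hp5 hcard hq4 rfl rfl
    (hex (by rw [horders]; exact Or.inr (Or.inl dvd_rfl)))
    (hex (by rw [horders]; exact Or.inr (Or.inr dvd_rfl)))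
  rw [h7] at hcs
  norm_num at hcs ⊢
  omega

end CfsgLib.Recog.SevenOrders
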