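import Cfsg.Agent.Lib.Recog.SevenOrders.Simple
import Cfsg.Agent.S1003
import Cfsg.Agent.S0495

/-!
# Groups with at least three primes and element orders powers of two or primes other than five
-/

set_option autoImplicit false
set_option linter.all false

open scoped Classical

namespace CfsgLib.Recog.SevenOrders

open Subgroup

universe u

variable {G : Type u} [Group G] [Finite G]

/-- Normalisers of subgroups of odd prime order. -/
theorem normalizer_zpowers (h : Ord G) {r : ℕ} (hr : r.Prime) (hr2 : r ≠ 2) {y : G} (hy : orderOf y = r) :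
    (∃ a d : ℕ, Nat.card (normalizer (zpowers y : Set G)) = r ^ a * d ∧ d ∣ r - 1) ∧
      Group.IsSolvable (normalizer (zpowers y : Set G)) := by
  haveI := Fact.mk hr
  set f := (zpowers y).normalizerMonoidHom
  have hker : IsPGroup r f.ker := by
    rw [normalizerMonoidHom_ker]
    refine IsPGroup.comap_subtype ?_
    exact (h.centralizer_isPGroup hr hr2 hy).to_le
      (centralizer_le (Set.singleton_subset_iff.2 (mem_zpowers y)))
  obtain ⟨a, ha⟩ := hker.exists_card_eq
  have hcard : Nat.card (MulAut (zpowers y)) = r - 1 := by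
    rw [IsCyclic.card_mulAut, Nat.card_zpowers, hy, Nat.totient_prime hr]
  refine ⟨⟨a, Nat.card f.range, ?_, hcard ▸ Subgroup.card_subgroup_dvd_card _⟩, ?_⟩
  · rw [← ha, mul_comm, ← index_ker, index_mul_card]
  · haveI := hker.isNilpotent
    haveI : Group.IsSolvable (MulAut (zpowers y)) :=
      Group.isSolvable_of_surjective (f := (IsCyclic.mulAutMulEquiv (zpowers y)).symm.toMonoidHom)
        (IsCyclic.mulAutMulEquiv (zpowers y)).symm.surjective
    exact solvable_of_ker_le_range f.ker.subtype f (by rw [range_subtype])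

/-- A group with an normal subgroup of order 168 and trivial solvable part is that subgroup. -/
theorem normal_eq_top (h : Ord G) (M : Subgroup G) [M.Normal] [IsSimpleGroup M] (hM : Nat.card M = 168) :
    M = ⊤ := by
  haveI : Fact (Nat.Prime 3) := ⟨Nat.prime_three⟩
  haveI : Fact (Nat.Prime 7) := ⟨by norm_num⟩
  have hs := Cfsg.Agent.S1003.result hM
  have key : ∀ r : ℕ, r.Prime → r ∣ 168 → ¬ r ^ 2 ∣ 168 → ∀ P : Sylow r M, ∃ (y : G) (c : ℕ),
      orderOf y = r ∧ M.index * c = Nat.card (normalizer (zpowers y : Set G)) ∧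
        Nat.card (normalizer ((P : Subgroup M) : Set M)) ∣ c := by
    intro r hr hrd hr2 P
    haveI := Fact.mk hr
    have hPc : Nat.card (P : Subgroup M) = r := by
      rw [P.card_eq_multiplicity, hM]
      have h1 : Nat.factorization 168 r = 1 := by
        refine le_antisymm ?_ (hr.factorization_pos_of_dvd (by norm_num) hrd)
        by_contra hlt
        exact hr2 ((pow_dvd_pow r (by omega)).trans (Nat.ordProj_dvd 168 r))
      rw [h1, pow_one]
    obtain ⟨⟨y₀, hy₀⟩, hy₀o⟩ := exists_prime_orderOf_dvd_card' (G := (P : Subgroup M)) r hPc.symm.dvd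
    rw [← Subgroup.orderOf_coe] at hy₀o
    have hPz : (P : Subgroup M) = zpowers y₀ :=
      (eq_of_le_of_card_ge (zpowers_le.2 hy₀) (by rw [hPc, Nat.card_zpowers]; exact hy₀o.ge)).symm
    have hmap : (P : Subgroup M).map M.subtype = zpowers (y₀ : G) := by
      rw [hPz, MonoidHom.map_zpowers]; rfl
    have hsup := Sylow.normalizer_sup_eq_top P
    rw [hmap] at hsup
    set N := normalizer (zpowers (y₀ : G) : Set G)
    refine ⟨(y₀ : G), Nat.card (M.subgroupOf N), (Subgroup.orderOf_coe y₀).trans hy₀o, ?_, ?_⟩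
    · have h1 : M.relIndex (M ⊔ N) = M.relIndex N := by
        exact relIndex_sup_left N M ▸ (by rw [sup_comm])
      rw [sup_comm, hsup, relIndex_top_right] at h1
      rw [h1, Subgroup.relIndex, index_mul_card]
    · have hle : (normalizer ((P : Subgroup M) : Set M)).map M.subtype ≤ M ⊓ N := by
        refine le_inf (map_subtype_le _) ((le_normalizer_map M.subtype).trans (le_of_eq ?_))
        rw [hmap]
      have hd := card_dvd_of_le hle
      rw [card_map_of_injective M.subtype_injective] at hd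
      refine hd.trans (dvd_of_eq ?_)
      rw [← inf_subgroupOf_right, Nat.card_congr (subgroupOfEquivOfLe inf_le_right).toEquiv]
  rw [← index_eq_one]
  obtain ⟨P3⟩ : Nonempty (Sylow 3 M) := inferInstance
  obtain ⟨P7⟩ : Nonempty (Sylow 7 M) := inferInstance
  obtain ⟨y3, c3, hy3, hc3, -⟩ := key 3 Nat.prime_three (by norm_num) (by norm_num) P3
  obtain ⟨y7, c7, hy7, hc7, hd7⟩ := key 7 (by norm_num) (by norm_num) (by norm_num) P7
  have h21 : Nat.card (normalizer ((P7 : Subgroup M) : Set M)) = 21 := by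
    have h1 := index_mul_card (normalizer ((P7 : Subgroup M) : Set M))
    have h2 : (normalizer ((P7 : Subgroup M) : Set M)).index = 8 := P7.card_eq_index_normalizer.symm.trans hs.2.2
    rw [h2, hM] at h1
    omega
  rw [h21] at hd7
  obtain ⟨⟨a, d, hd, hdd⟩, hsol⟩ := normalizer_zpowers h (by norm_num) (by norm_num) hy7
  obtain ⟨⟨b, e, he, hee⟩, -⟩ := normalizer_zpowers h Nat.prime_three (by norm_num) hy3
  have h21N : 21 ∣ Nat.card (normalizer (zpowers y7 : Set G)) := hc7 ▸ hd7.mul_left _
  have h2N : ¬ 2 ∣ Nat.card (normalizer (zpowers y7 : Set G)) := by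
    intro h2
    have := Orders.eppo_solvable_primes h.isPrimePow _ hsol
    have hsub : ({2, 3, 7} : Finset ℕ) ⊆ (Nat.card (normalizer (zpowers y7 : Set G))).primeFactors := by
      intro x hx
      simp only [Finset.mem_insert, Finset.mem_singleton] at hx
      rw [Nat.mem_primeFactors]
      rcases hx with rfl | rfl | rfl
      · exact ⟨Nat.prime_two, h2, Nat.card_pos.ne'⟩
      · exact ⟨Nat.prime_three, dvd_trans (by norm_num) h21N, Nat.card_pos.ne'⟩
      · exact ⟨by norm_num, dvd_trans (by norm_num) h21N, Nat.card_pos.ne'⟩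
    have h3 := (Finset.card_le_card hsub).trans this
    norm_num at h3
  have hd3 : d = 1 ∨ d = 3 := by
    have hd6 : d ∣ 6 := hdd
    have : ¬ 2 ∣ d := fun h2 => h2N (hd ▸ h2.mul_left _)
    have : d ≤ 6 := Nat.le_of_dvd (by norm_num) hd6
    interval_cases d <;> omega
  by_contra hne
  obtain ⟨s, hs', hsd⟩ := Nat.exists_prime_and_dvd hne
  have hs7 : s = 7 := by
    by_contra hs7
    have hcop : Nat.Coprime s (7 ^ a) :=
      ((Nat.coprime_primes hs' (by norm_num)).2 hs7).pow_right _
    have hsN : s ∣ 7 ^ a * d := hd ▸ hc7 ▸ hsd.mul_right _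
    have hsd' : s ∣ d := hcop.dvd_of_dvd_mul_left hsN
    rcases hd3 with rfl | rfl
    · exact hs'.ne_one (Nat.dvd_one.1 hsd')
    · have hs3 : s = 3 := (Nat.prime_dvd_prime_iff_eq hs' Nat.prime_three).1 hsd'
      subst hs3
      obtain ⟨k, hk⟩ := hd7
      have h9 : 3 * 3 ∣ 7 ^ a * 3 := by
        rw [← hd, ← hc7, hk]
        exact mul_dvd_mul hsd (dvd_trans (by norm_num) (dvd_mul_right 21 k))
      exact absurd (hcop.eq_one_of_dvd (Nat.dvd_of_mul_dvd_mul_right (by norm_num) h9)) (by norm_num)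
  subst hs7
  have h7 : 7 ∣ 3 ^ b * e := he ▸ hc3 ▸ hsd.mul_right _
  rcases (Nat.Prime.dvd_mul (by norm_num : Nat.Prime 7)).1 h7 with h | h
  · exact absurd ((Nat.prime_dvd_prime_iff_eq (by norm_num) Nat.prime_three).1
      ((by norm_num : Nat.Prime 7).dvd_of_dvd_pow h)) (by norm_num)
  · have := h.trans hee
    norm_num at this

/-- A group of order `2^a * 168` with element of order three normalising a subgroup of order seven. -/
theorem exists_frobenius (h : Ord G) {a : ℕ} (hG : Nat.card G = 168 * 2 ^ a) :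
    ∃ (Q : Subgroup G) (y : G), Nat.card Q = 7 ∧ orderOf y = 3 ∧ ∀ q ∈ Q, y * q * y⁻¹ ∈ Q := by
  haveI : Fact (Nat.Prime 3) := ⟨Nat.prime_three⟩
  haveI : Fact (Nat.Prime 7) := ⟨by norm_num⟩
  obtain ⟨P⟩ : Nonempty (Sylow 7 G) := inferInstance
  have hPc : Nat.card (P : Subgroup G) = 7 := by
    obtain ⟨n, hn⟩ := P.isPGroup'.exists_card_eq
    have hd : 7 ^ n ∣ 7 * (24 * 2 ^ a) := by
      rw [← hn, show 7 * (24 * 2 ^ a) = Nat.card G by rw [hG]; ring]
      exact card_subgroup_dvd_card _
    have h7 : 7 ∣ Nat.card (P : Subgroup G) :=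
      P.dvd_card_of_dvd_card (hG ▸ Dvd.dvd.mul_right (by norm_num) _)
    rw [hn] at h7 ⊢
    rcases n with _ | _ | n
    · norm_num at h7
    · norm_num
    · exfalso
      rw [pow_succ' 7 (n + 1), Nat.mul_dvd_mul_iff_left (by norm_num), pow_succ'] at hd
      have h24 : 7 ∣ 24 * 2 ^ a := (dvd_mul_right 7 _).trans hd
      rcases (Nat.Prime.dvd_mul (by norm_num : Nat.Prime 7)).1 h24 with h | h
      · norm_num at h
      · have := (by norm_num : Nat.Prime 7).dvd_of_dvd_pow h
        norm_num at this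
  set N := normalizer ((P : Subgroup G) : Set G)
  by_cases h3 : 3 ∣ Nat.card N
  · obtain ⟨⟨y, hy⟩, hyo⟩ := exists_prime_orderOf_dvd_card' (G := N) 3 h3
    rw [← Subgroup.orderOf_coe] at hyo
    exact ⟨P, y, hPc, hyo, fun q hq => (mem_normalizer_iff.1 hy q).1 hq⟩
  · exfalso
    have hi : N.index * Nat.card N = 2 ^ (a + 3) * (3 * 7) := by
      rw [index_mul_card, hG]; ring
    have hmod : Nat.card (Sylow 7 G) % 7 = 1 := card_sylow_modEq_one 7 G
    rw [P.card_eq_index_normalizer] at hmod
    change N.index % 7 = 1 at hmod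
    obtain ⟨c, hc⟩ : 3 ∣ N.index :=
      (Nat.prime_three.dvd_mul.1 (hi ▸ Dvd.dvd.mul_left (dvd_mul_right 3 7) _)).resolve_right h3
    have hc' : c * Nat.card N = 2 ^ (a + 3) * 7 := by
      rw [hc] at hi
      nlinarith
    have hcd : c ∣ 2 ^ (a + 3) := by
      refine Nat.Coprime.dvd_of_dvd_mul_right ?_ (hc' ▸ dvd_mul_right c _)
      exact ((Nat.Prime.coprime_iff_not_dvd (by norm_num : Nat.Prime 7)).2
        fun hd => by have : 7 ∣ N.index := hc ▸ hd.mul_left 3; omega).symm
    obtain ⟨j, -, hj⟩ := (Nat.dvd_prime_pow Nat.prime_two).1 hcd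
    rw [hc, hj] at hmod
    have h8 : 2 ^ j % 7 = 2 ^ (j % 3) % 7 := by
      conv_lhs => rw [← Nat.div_add_mod j 3, pow_add, pow_mul, Nat.mul_mod, Nat.pow_mod]
      norm_num
    have hj3 : j % 3 < 3 := Nat.mod_lt _ (by norm_num)
    rw [Nat.mul_mod, h8] at hmod
    interval_cases hjj : j % 3 <;> norm_num at hmod

/-- The recognition theorem. -/
theorem main (h : Ord G) (h3 : 3 ≤ (Nat.card G).primeFactors.card) {F : Type*} [Field F] [Fintype F]
    (hF : Fintype.card F = 7) : Nonempty (G ≃* Matrix.ProjectiveSpecialLinearGroup (Fin 2) F) := by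
  haveI : Fact (Nat.Prime 2) := ⟨Nat.prime_two⟩
  have hns : ¬ Group.IsSolvable G := fun hs => by
    have h2 := Orders.eppo_solvable_primes h.isPrimePow (⊤ : Subgroup G)
      (Group.isSolvable_of_surjective (f := (Subgroup.topEquiv (G := G)).symm.toMonoidHom)
        (Subgroup.topEquiv (G := G)).symm.surjective)
    rw [card_top] at h2
    omega
  set R := Components.solRadical G
  haveI : R.Normal := Components.solRadical_normal
  have hRmax : ∀ N : Subgroup G, N.Normal → Group.IsSolvable N → N ≤ R := fun N hN hs =>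
    Components.le_solRadical hN hs
  obtain ⟨⟨p, hp, hRp⟩, M, hMn, hMs, hMc, -⟩ :=
    Orders.eppo_structure hns h.isPrimePow R Components.solRadical_isSolvable hRmax
  haveI := Fact.mk hp
  have hQ : Ord (G ⧸ R) := h.of_surjective (QuotientGroup.mk' R) (QuotientGroup.mk'_surjective R)
  have hMns : ¬ Group.IsSolvable M := fun hs => hMc ⟨⟨IsSimpleGroup.comm_iff_isSolvable.2 hs⟩⟩
  have hM : Nat.card M = 168 := card_simple (hQ.subgroup M) hMns
  have htop : M = ⊤ := normal_eq_top hQ M hM
  subst htop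
  have hQc : Nat.card (G ⧸ R) = 168 := by rw [← card_top, hM]
  haveI : IsSimpleGroup (G ⧸ R) := (Subgroup.topEquiv (G := G ⧸ R)).symm.isSimpleGroup
  by_cases hR : R = ⊥
  · haveI : IsSimpleGroup G :=
      ((QuotientGroup.quotientMulEquivOfEq hR).trans QuotientGroup.quotientBot).symm.isSimpleGroup
    refine Cfsg.Agent.S0495.result ?_ hF
    rw [R.card_eq_card_quotient_mul_card_subgroup, hQc, hR, card_bot, mul_one]
  exfalso
  -- an elementary abelian normal subgroup inside `R`
  obtain ⟨V, r, hVn, hr, hV1, hVc, hVe⟩ :=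
    Spectrum.exists_elementary_of_solvable R hR Components.solRadical_isSolvable
  have hVs : Group.IsSolvable V := Group.isSolvable_of_comm hVc
  have hVR : V ≤ R := hRmax V hVn hVs
  obtain ⟨⟨v, hv⟩, hv1⟩ : ∃ v : V, v ≠ 1 := by
    haveI : Nontrivial V := (nontrivial_iff_ne_bot V).2 hV1
    exact exists_ne 1
  have hv1' : v ≠ 1 := fun e => hv1 (Subtype.ext e)
  have hrp : r = p := by
    obtain ⟨k, hk⟩ := hRp ⟨v, hVR hv⟩
    have h1 : orderOf v ∣ p ^ k := orderOf_dvd_of_pow_eq_one (by simpa using congrArg Subtype.val hk)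
    have h2 : orderOf v = r := by
      haveI := Fact.mk hr
      exact orderOf_eq_prime (by simpa using congrArg Subtype.val (hVe ⟨v, hv⟩)) hv1'
    exact (Nat.prime_dvd_prime_iff_eq hr hp).1 (hr.dvd_of_dvd_pow (h2 ▸ h1))
  subst hrp
  have hexp : ∀ w ∈ V, w ^ r = 1 := fun w hw => by simpa using congrArg Subtype.val (hVe ⟨w, hw⟩)
  have hVC : ∀ w ∈ V, w ≠ 1 → ∀ g : G, Commute g w → orderOf g ≠ 1 → r ∣ orderOf g := by
    intro w hw hw1 g hg hg1
    by_contra hnd
    obtain ⟨s, hs, hsd⟩ := Nat.exists_prime_and_dvd hg1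
    have hgs : orderOf (g ^ (orderOf g / s)) = s := by
      rw [orderOf_pow_of_dvd (by
        intro h0
        have := Nat.div_mul_cancel hsd
        rw [h0, zero_mul] at this
        exact (orderOf_pos g).ne this) (Nat.div_dvd_of_dvd hsd), Nat.div_div_self hsd (orderOf_pos g).ne']
    exact Orders.eppo_commute h.isPrimePow hr hs (fun e => hnd (e ▸ hsd)) hw1 (i := 1)
      (by rw [pow_one]; exact hexp w hw) hgs (hg.symm.pow_right _)
  rcases eq_or_ne r 2 with rfl | hr2
  · -- a Frobenius group of order 21 acts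
    obtain ⟨n, hn⟩ := hRp.exists_card_eq
    haveI : Fact (Nat.Prime 7) := ⟨by norm_num⟩
    obtain ⟨Q, y, hQ7, hy, hnorm⟩ := exists_frobenius h (a := n)
      (by rw [R.card_eq_card_quotient_mul_card_subgroup, hQc, hn])
    have hu7 : ∀ u ∈ Q, u ≠ 1 → orderOf u = 7 := fun u hu hu1 => by
      have hd := Subgroup.orderOf_dvd_natCard Q hu
      rw [hQ7] at hd
      exact ((Nat.dvd_prime (by norm_num)).1 hd).resolve_left fun e => hu1 (orderOf_eq_one_iff.1 e)
    haveI : IsCyclic Q := isCyclic_of_prime_card hQ7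
    refine hV1 (ThreePrimes.trivial_of_fixed_point_free V hVc Nat.prime_two (q := 7) (by norm_num)
      Nat.prime_three (by norm_num) hVe Q (IsPGroup.of_card (n := 1) (by rw [hQ7, pow_one]))
      (fun a b => by letI : CommGroup Q := IsCyclic.commGroup; exact mul_comm a b) (fun e => by rw [e, card_bot] at hQ7; norm_num at hQ7)
      y hy hnorm ?_ ?_ ?_)
    · intro u hu hu1 w hw hc
      by_contra hw1
      have := hVC w hw hw1 u hc (by rw [hu7 u hu hu1]; norm_num)
      rw [hu7 u hu hu1] at this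
      norm_num at this
    · intro b hb w hw hc
      by_contra hw1
      have := hVC w hw hw1 _ hc (by rw [Signalizer.orderOf_conj, hy]; norm_num)
      rw [Signalizer.orderOf_conj, hy] at this
      norm_num at this
    · intro u hu hc
      by_contra hu1
      exact Orders.eppo_commute h.isPrimePow Nat.prime_three (by norm_num : Nat.Prime 7) (by norm_num)
        (a := y) (i := 1) (fun e => by rw [e, orderOf_one] at hy; norm_num at hy)
        (by rw [pow_one, ← hy, pow_orderOf_eq_one]) (hu7 u hu hu1) hc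
  · -- involutions invert `V`, so they agree modulo `R`
    have hinv : ∀ t : G, orderOf t = 2 → t * v * t⁻¹ = v⁻¹ := by
      intro t ht
      have htv : t * v * t⁻¹ ∈ V := hVn.conj_mem v hv t
      have hc : t * v * t⁻¹ * v = v * (t * v * t⁻¹) := congrArg Subtype.val (hVc ⟨_, htv⟩ ⟨v, hv⟩)
      have hfix : t * (v * (t * v * t⁻¹)) * t⁻¹ = v * (t * v * t⁻¹) := by
        calc t * (v * (t * v * t⁻¹)) * t⁻¹ = t * v * t⁻¹ * ((t * t) * v * (t * t)⁻¹) := by group
          _ = v * (t * v * t⁻¹) := by rw [Signalizer.involution_sq ht, one_mul, inv_one, mul_one, hc]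
      by_contra hne
      have hw1 : v * (t * v * t⁻¹) ≠ 1 := fun e => hne (eq_inv_of_mul_eq_one_right e)
      have := hVC _ (mul_mem hv htv) hw1 t (mul_inv_eq_iff_eq_mul.1 hfix) (by rw [ht]; norm_num)
      rw [ht] at this
      exact hr2 ((Nat.prime_dvd_prime_iff_eq hr Nat.prime_two).1 this)
    set C : Subgroup G := centralizer (V : Set G)
    have hCR : C ≤ R := by
      have hCp : IsPGroup r C := fun c => by
        have hc : Commute (c : G) v := (mem_centralizer_iff.1 c.2 v hv).symm
        by_cases hc1 : (c : G) = 1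
        · exact ⟨0, Subtype.ext (by simp [hc1])⟩
        obtain ⟨s, k, hs, hk, hsk⟩ := h.isPrimePow _ hc1
        have hs' := hs.nat_prime
        have hrs := hVC v hv hv1' c hc (fun e => hc1 (orderOf_eq_one_iff.1 e))
        rw [← hsk] at hrs
        have : r = s := (Nat.prime_dvd_prime_iff_eq hr hs').1 (hr.dvd_of_dvd_pow hrs)
        subst this
        exact ⟨k, Subtype.ext (by rw [coe_pow, coe_one, hsk, pow_orderOf_eq_one])⟩
      haveI := hCp.isNilpotent
      exact hRmax C inferInstance inferInstance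
    have hinvV : ∀ t : G, orderOf t = 2 → ∀ w ∈ V, t * w * t⁻¹ = w⁻¹ := by
      intro t ht w hw
      have htw : t * w * t⁻¹ ∈ V := hVn.conj_mem w hw t
      have hc : t * w * t⁻¹ * w = w * (t * w * t⁻¹) := congrArg Subtype.val (hVc ⟨_, htw⟩ ⟨w, hw⟩)
      have hfix : t * (w * (t * w * t⁻¹)) * t⁻¹ = w * (t * w * t⁻¹) := by
        calc t * (w * (t * w * t⁻¹)) * t⁻¹ = t * w * t⁻¹ * ((t * t) * w * (t * t)⁻¹) := by group
          _ = w * (t * w * t⁻¹) := by rw [Signalizer.involution_sq ht, one_mul, inv_one, mul_one, hc]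
      by_contra hne
      have hw1 : w * (t * w * t⁻¹) ≠ 1 := fun e => hne (eq_inv_of_mul_eq_one_right e)
      have := hVC _ (mul_mem hw htw) hw1 t (mul_inv_eq_iff_eq_mul.1 hfix) (by rw [ht]; norm_num)
      rw [ht] at this
      exact hr2 ((Nat.prime_dvd_prime_iff_eq hr Nat.prime_two).1 this)
    obtain ⟨t, ht⟩ := exists_prime_orderOf_dvd_card' (G := G) 2
      (even_iff_two_dvd.1 (even_card_of_not_isSolvable h hns))
    set tb : G ⧸ R := (t : G ⧸ R)
    have hcen : tb ∈ center (G ⧸ R) := by
      rw [mem_center_iff]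
      intro q
      obtain ⟨g, rfl⟩ := QuotientGroup.mk_surjective q
      have hmem : (g * t * g⁻¹) * t ∈ C := mem_centralizer_iff.2 fun w hw => by
        have h1 := hinvV t ht w hw
        have h2 := hinvV (g * t * g⁻¹) (by rw [Signalizer.orderOf_conj, ht]) w⁻¹ (inv_mem hw)
        have h3 : (g * t * g⁻¹ * t) * w * (g * t * g⁻¹ * t)⁻¹ = w := by
          calc _ = g * t * g⁻¹ * (t * w * t⁻¹) * (g * t * g⁻¹)⁻¹ := by group
            _ = w := by rw [h1, h2, inv_inv]
        exact (mul_inv_eq_iff_eq_mul.1 h3).symm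
      have h4 : ((g * t * g⁻¹ * t : G) : G ⧸ R) = 1 := (QuotientGroup.eq_one_iff _).2 (hCR hmem)
      have ht2 : tb * tb = 1 := by
        rw [← QuotientGroup.mk_mul, Signalizer.involution_sq ht, QuotientGroup.mk_one]
      simp only [QuotientGroup.mk_mul, QuotientGroup.mk_inv] at h4
      have h5 : (g : G ⧸ R) * tb * (g : G ⧸ R)⁻¹ = tb := by
        rw [eq_inv_of_mul_eq_one_left h4]
        exact inv_eq_of_mul_eq_one_right ht2
      exact mul_inv_eq_iff_eq_mul.1 h5
    rcases (inferInstance : (center (G ⧸ R)).Normal).eq_bot_or_eq_top with e | e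
    · rw [e, mem_bot, QuotientGroup.eq_one_iff] at hcen
      obtain ⟨k, hk⟩ := hRp ⟨t, hcen⟩
      have h1 : orderOf t ∣ r ^ k := orderOf_dvd_of_pow_eq_one (by simpa using congrArg Subtype.val hk)
      rw [ht] at h1
      exact hr2 ((Nat.prime_dvd_prime_iff_eq Nat.prime_two hr).1 (Nat.prime_two.dvd_of_dvd_pow h1)).symm
    · exact not_comm (fun hs => hMns (Group.isSolvable_of_surjective
        (f := (Subgroup.topEquiv (G := G ⧸ R)).symm.toMonoidHom) (Subgroup.topEquiv (G := G ⧸ R)).symm.surjective))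
        fun a b => mem_center_iff.1 (e ▸ mem_top b) a

end CfsgLib.Recog.SevenOrders
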