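import Cfsg.Agent.Lib.Recog.SevenOrders.Sylow
import Cfsg.Agent.Lib.CIT.Rigid
import Cfsg.Agent.Lib.PGroups.FixedPointRank
import Cfsg.Agent.Lib.Recog.SelfCentThree.Main
import Cfsg.Agent.Lib.ZStar.Apps
import Cfsg.Agent.S0340

/-!
# A simple group with element orders powers of two or primes other than five has order 168
-/

set_option autoImplicit false
set_option linter.all false

open scoped Classical

namespace CfsgLib.Recog.SevenOrders

open Subgroup
open CfsgLib.CIT (IsSyl TISylow Branching core zcore Para Pair qact OddFpf)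

universe u

variable {G : Type u} [Group G] [Finite G]

theorem card_of_psl (h : Ord G) (hns : ¬ Group.IsSolvable G)
    (hF : ∃ (F : Type) (_ : Field F) (_ : Fintype F),
      Nonempty (G ≃* Matrix.ProjectiveSpecialLinearGroup (Fin 2) F)) : Nat.card G = 168 := by
  obtain ⟨F, iF, iFt, ⟨e⟩⟩ := hF
  rw [Nat.card_congr e.toEquiv]
  refine psl_card (h.of_surjective e.toMonoidHom e.surjective) fun hs => hns ?_
  haveI := hs
  exact Group.isSolvable_of_surjective (f := e.symm.toMonoidHom) e.symm.surjective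

theorem not_comm (hns : ¬ Group.IsSolvable G) (hall : ∀ a b : G, a * b = b * a) : False := by
  letI : CommGroup G := { (inferInstance : Group G) with mul_comm := hall }
  exact hns inferInstance

/-- The TI case. -/
theorem card_of_tiSylow [IsSimpleGroup G] (h : Ord G) (hns : ¬ Group.IsSolvable G) (hTI : TISylow G) :
    Nat.card G = 168 := by
  haveI : Fact (Nat.Prime 2) := ⟨Nat.prime_two⟩
  have hC := h.cit
  have heven := even_card_of_not_isSolvable h hns
  obtain ⟨S⟩ : Nonempty (Sylow 2 G) := inferInstance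
  set T : Subgroup G := ↑S
  have hTs : IsSyl T ⊤ := ⟨le_top, S.isPGroup', fun P h1 _ h3 => S.is_maximal' h3 h1⟩
  have hTne : T ≠ ⊥ := S.ne_bot_of_dvd_card (even_iff_two_dvd.1 heven)
  have hb : Branching (⊤ : Subgroup G) := by
    intro U hU hn
    haveI : U.Normal := normalizer_eq_top_iff.1 (top_le_iff.1 hn)
    obtain ⟨g, -, hg⟩ := hTs.exists_conj hU
    rcases (inferInstance : U.Normal).eq_bot_or_eq_top with e | e
    · refine hTne (Subgroup.eq_bot_of_card_eq T ?_)
      rw [← CIT.card_cj g T, hg, e, card_bot]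
    · haveI : Group.IsNilpotent (⊤ : Subgroup G) := (e ▸ hU.2.1 : IsPGroup 2 (⊤ : Subgroup G)).isNilpotent
      exact hns (Group.isSolvable_of_surjective (f := (Subgroup.topEquiv (G := G)).toMonoidHom) (Subgroup.topEquiv (G := G)).surjective)
  haveI : Nontrivial T := (nontrivial_iff_ne_bot T).2 hTne
  haveI := hTs.2.1.center_nontrivial
  obtain ⟨w, hw⟩ := exists_prime_orderOf_dvd_card' (G := center T) 2 (by
    obtain ⟨k, hk0, hk⟩ := (hTs.2.1.to_subgroup _).nontrivial_iff_card.1 ‹_›
    exact hk ▸ dvd_pow_self 2 hk0.ne')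
  set z : G := ((w : T) : G)
  have hz : orderOf z = 2 := by rw [Subgroup.orderOf_coe, Subgroup.orderOf_coe, hw]
  obtain ⟨x, hxT, hx, hxz⟩ : ∃ x ∈ T, orderOf x = 2 ∧ x ≠ z := by
    by_contra hno
    push Not at hno
    have hO : Cfsg.oddCore G = ⊥ := by
      rcases (show (Cfsg.oddCore G).Normal from sSup_normal _ fun _ hN => hN.1).eq_bot_or_eq_top with e | e
      · exact e
      · exfalso
        have hcop := Components.pPrimeCore_coprime (G := G) 2
        rw [show Cfsg.pPrimeCore 2 G = ⊤ from e, card_top, Nat.coprime_two_right] at hcop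
        exact Nat.not_even_iff_odd.2 hcop heven
    have hzc : z ∈ center G := mem_center_iff.2 fun g => by
      have := CfsgLib.ZStar.mem_oddCore_of_unique S hz (w : T).2 hno g
      rw [hO, mem_bot] at this
      exact (mul_inv_eq_iff_eq_mul.1 (mul_inv_eq_one.1 this)).symm
    rcases (inferInstance : (center G).Normal).eq_bot_or_eq_top with e | e
    · exact Signalizer.involution_ne_one hz (mem_bot.1 (e ▸ hzc))
    · exact not_comm hns fun a b => mem_center_iff.1 (e ▸ mem_top b) a
  have hzT : z ∈ T := (w : T).2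
  have hcxz : z * x = x * z := (congrArg Subtype.val (mem_center_iff.1 w.2 ⟨x, hxT⟩)).symm
  have hE := hTI.embedded hC hb hTs
  set M := normalizer (T : Set G)
  have hi : 2 ≤ hE.invCount := by
    haveI : Nontrivial {t : G // orderOf t = 2 ∧ t ∈ M} :=
      ⟨⟨z, hz, le_normalizer hzT⟩, ⟨x, hx, le_normalizer hxT⟩, fun e => hxz (congrArg Subtype.val e).symm⟩
    exact Finite.one_lt_card
  have hfaith : FaithfulSMul G (G ⧸ M) := by
    constructor
    intro a b hab
    have hk : b⁻¹ * a ∈ M.normalCore := by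
      rw [normalCore_eq_ker, MonoidHom.mem_ker]
      refine Equiv.ext fun p => ?_
      show (b⁻¹ * a) • p = p
      rw [mul_smul, hab, inv_smul_smul]
    rcases (normalCore_normal M).eq_bot_or_eq_top with e | e
    · rw [e, mem_bot, inv_mul_eq_one] at hk
      exact hk.symm
    · exact absurd (top_le_iff.1 (e ▸ normalCore_le M)) hE.se.1
  have hZ := hE.isZassenhaus hi ⟨z, x, le_normalizer hzT, le_normalizer hxT, hz, hx, hxz.symm, hcxz⟩ hfaith
  rcases Cfsg.Agent.S0340.result hZ with ⟨F, iF, iFt, hF⟩ | ⟨-, m, -, hcard⟩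
  · exact card_of_psl h hns ⟨F, iF, iFt, hF⟩
  · refine absurd ?_ h.not_five
    rw [hcard]
    refine Dvd.dvd.mul_right (Dvd.dvd.mul_left ?_ _) _
    rw [← pow_mul, show (2 * m + 1) * 2 = 4 * m + 2 by ring, pow_add, pow_mul]
    rw [show (2:ℕ) ^ 4 = 16 by norm_num]
    have : (16 : ℕ) ^ m % 5 = 1 := by rw [Nat.pow_mod]; norm_num
    omega

/-- The parameter of a pair is two. -/
theorem pair_q_eq_two (h : Ord G) {T W A : Subgroup G} {q : ℕ} (hP : Pair T W A q) : q = 2 := by
  haveI : Fact (Nat.Prime 2) := ⟨Nat.prime_two⟩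
  haveI : Fact (Nat.Prime 3) := ⟨Nat.prime_three⟩
  set X := normalizer (W : Set G)
  have hX0 : core X ≠ ⊥ := hP.core_ne_bot
  have hq1 := hP.left.one_lt
  obtain ⟨i, hi⟩ : ∃ i, q = 2 ^ i := by
    have hp : IsPGroup 2 (CIT.zfix X T) :=
      (CIT.isPGroup_core X).to_le (inf_le_left.trans (CIT.zcore_le X))
    obtain ⟨i, hi⟩ := hp.exists_card_eq
    exact ⟨i, hP.left.card_Z ▸ hi⟩
  set Y := X ⧸ Cfsg.pCore 2 X
  have hY : Ord Y := (h.subgroup X).of_surjective (QuotientGroup.mk' _) (QuotientGroup.mk'_surjective _)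
  have hcY : Nat.card Y = (q + 1) * q * (q - 1) := by
    have h1 := Subgroup.card_eq_card_quotient_mul_card_subgroup (Cfsg.pCore 2 X)
    have h2 : Nat.card (core X) = Nat.card (Cfsg.pCore 2 X) := card_map_of_injective X.subtype_injective
    rw [hP.left.card_X, h2] at h1
    exact (Nat.eq_of_mul_eq_mul_right Nat.card_pos h1).symm
  obtain ⟨x, hxX, hx3, -⟩ := hP.left.three
  set y : Y := ((⟨x, hxX⟩ : X) : Y)
  have hy1 : y ≠ 1 := fun e => by
    have hmem : x ∈ core X := (CIT.mem_core_iff ⟨x, hxX⟩).2 ((QuotientGroup.eq_one_iff _).1 e)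
    have := CIT.eq_one_of_odd_of_pGroup (CIT.isPGroup_core X) hmem (by rw [hx3]; decide)
    rw [this, orderOf_one] at hx3
    norm_num at hx3
  have hy3 : orderOf y = 3 := by
    refine orderOf_eq_prime ?_ hy1
    show ((⟨x, hxX⟩ : X) : Y) ^ 3 = 1
    rw [← QuotientGroup.mk_pow, show (⟨x, hxX⟩ : X) ^ 3 = 1 from Subtype.ext (by
      rw [coe_pow, coe_one, ← hx3, pow_orderOf_eq_one]), QuotientGroup.mk_one]
  letI : CommGroup (zcore X) :=
    { (inferInstance : Group (zcore X)) with mul_comm := fun a b => Subtype.ext (CIT.zcore_comm a.2 b.2) }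
  haveI : Nontrivial (zcore X) := (nontrivial_iff_ne_bot _).2 (CIT.zcore_ne_bot hX0)
  have hfpf : OddFpf (qact X) := CIT.qact_oddFpf h.cit X
  have hsc : SelfCentThree.Setup y := ⟨hy3, fun g hg => by
    by_contra hgy
    have hg3 : g ^ 3 = 1 := hY.pow_eq_one Nat.prime_three (by norm_num) hy3 hg
    have hgo : orderOf g = 3 := orderOf_eq_prime hg3 fun e => hgy (e ▸ one_mem _)
    have hcop : (Nat.card (zcore X)).Coprime 3 := by
      rw [hP.left.card_W, hi, ← pow_mul]
      exact Nat.Coprime.pow_left _ (by norm_num)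
    obtain ⟨v, -, hv, m, hm, hfix⟩ := PGroups.FixRank.exists_fixed (φ := qact X) hcop hy3 hgo
      (Commute.symm hg) hgy
    exact hm (hfpf v (by rw [hv]; decide) (fun e => by rw [e, orderOf_one] at hv; norm_num at hv) m hfix)⟩
  rcases SelfCentThree.outcome (Nat.card Y) hsc le_rfl with ⟨N, hN, hNn, hN3, hQ⟩ | ⟨N, hN, -, -, ⟨e⟩⟩ | ⟨⟨e⟩⟩
  · have hodd : Odd (Nat.card N) := by
      by_contra heven
      haveI := hNn
      obtain ⟨P⟩ : Nonempty (Sylow 2 N) := inferInstance
      haveI := Sylow.normal_of_normalizerCondition Group.normalizerCondition_of_isNilpotent P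
      haveI := Sylow.characteristic_of_normal P inferInstance
      have hbot := CIT.quotient_core X ((P : Subgroup N).map N.subtype) inferInstance (P.isPGroup'.map _)
      exact P.ne_bot_of_dvd_card (even_iff_two_dvd.1 (Nat.not_odd_iff_even.1 heven))
        ((map_eq_bot_iff_of_injective _ N.subtype_injective).1 hbot)
    have hc : Nat.card Y = Nat.card (Y ⧸ N) * Nat.card N := Subgroup.card_eq_card_quotient_mul_card_subgroup N
    have h6 : Nat.card (Y ⧸ N) = 3 ∨ Nat.card (Y ⧸ N) = 6 := by
      rcases hQ with e | ⟨⟨e⟩⟩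
      · exact Or.inl e
      · refine Or.inr ?_
        rw [Nat.card_congr e.toEquiv, Nat.card_perm, Nat.card_fin]
        rfl
    by_contra hq
    have hi2 : 2 ≤ i := by
      by_contra hlt
      interval_cases i <;> simp at hi <;> omega
    have h4 : 4 ∣ Nat.card Y := by
      rw [hcY, hi]
      exact Dvd.dvd.mul_right (Dvd.dvd.mul_left ((show (4:ℕ) = 2 ^ 2 by norm_num) ▸ pow_dvd_pow 2 hi2) _) _
    obtain ⟨c, hc'⟩ := hodd
    rcases h6 with e | e <;> rw [hc, e, hc'] at h4 <;> omega
  · refine absurd ?_ hY.not_five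
    rw [Subgroup.card_eq_card_quotient_mul_card_subgroup N, Nat.card_congr e.toEquiv]
    refine Dvd.dvd.mul_right ?_ _
    rw [nat_card_alternatingGroup, Nat.card_fin]
    decide
  · exfalso
    haveI : Fact (Nat.Prime 7) := ⟨by norm_num⟩
    have h168 : Nat.card Y = 168 := by
      rw [Nat.card_congr e.toEquiv]
      have hcs := CfsgLib.Classical.Two.card_PSL_two (F := ZMod 7)
      rw [ZMod.card] at hcs
      norm_num at hcs ⊢
      omega
    rw [hcY] at h168
    rcases Nat.lt_or_ge q 6 with hlt | hge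
    · interval_cases q <;> norm_num at h168
    · have h210 : 7 * 6 * 5 ≤ (q + 1) * q * (q - 1) :=
        Nat.mul_le_mul (Nat.mul_le_mul (show 7 ≤ q + 1 by omega) hge) (show 5 ≤ q - 1 by omega)
      rw [h168] at h210
      norm_num at h210

/-- The pair case. -/
theorem card_of_pair [IsSimpleGroup G] (h : Ord G) (hns : ¬ Group.IsSolvable G) {T W A : Subgroup G} {q : ℕ}
    (hP : Pair T W A q) : Nat.card G = 168 := by
  haveI : Fact (Nat.Prime 2) := ⟨Nat.prime_two⟩
  obtain rfl := pair_q_eq_two h hP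
  have hWc : Nat.card W = 4 := by rw [hP.right.card_A]; norm_num
  have hTc : Nat.card T = 8 := by rw [hP.left.card_T, hP.core_left, hWc]
  have hWT : W ≤ T := hP.right.maxA.1
  have hTp := hP.left.syl.2.1
  have hWel := hP.right.maxA.2.1
  haveI : Nontrivial W := Finite.one_lt_card_iff_nontrivial.1 (by omega)
  obtain ⟨⟨v, hv⟩, hv1⟩ := exists_ne (1 : W)
  have hvo : orderOf v = 2 :=
    orderOf_eq_prime (by rw [pow_two, CIT.sq_of_elementary hWel hv]) fun e => hv1 (Subtype.ext e)
  have hcW : centralizer (W : Set G) ≤ W := by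
    refine le_trans (CIT.le_core ?_ (centralizer_le_normalizer (W : Set G)) ?_) hP.core_left.le
    · exact (h.cit v hvo).to_le (centralizer_le (Set.singleton_subset_iff.2 hv))
    · intro g hg
      rw [mem_normalizer_iff]
      refine fun c => ⟨fun hc => mem_centralizer_iff.2 fun a ha => ?_, fun hc => mem_centralizer_iff.2 fun a ha => ?_⟩
      · have h1 := mem_centralizer_iff.1 hc (g⁻¹ * a * g) (by simpa using (mem_normalizer_iff''.1 hg a).1 ha)
        calc a * (g * c * g⁻¹) = g * (g⁻¹ * a * g * c) * g⁻¹ := by group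
          _ = g * (c * (g⁻¹ * a * g)) * g⁻¹ := by rw [h1]
          _ = g * c * g⁻¹ * a := by group
      · have h1 := mem_centralizer_iff.1 hc (g * a * g⁻¹) ((mem_normalizer_iff.1 hg a).1 ha)
        calc a * c = g⁻¹ * (g * a * g⁻¹ * (g * c * g⁻¹)) * g := by group
          _ = g⁻¹ * (g * c * g⁻¹ * (g * a * g⁻¹)) * g := by rw [h1]
          _ = c * a := by group
  obtain ⟨S, hTS⟩ := hTp.exists_le_sylow
  have hWS : W ≤ (S : Subgroup G) := hWT.trans hTS
  refine card_of_psl h hns (exists_psl hns h.cit S (W.subgroupOf S) ?_ ?_ ?_ ?_)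
  · rw [Nat.card_congr (subgroupOfEquivOfLe hWS).toEquiv, hWc]; norm_num
  · refine le_antisymm (fun c hc => ?_) (fun c hc => mem_centralizer_iff.2 fun a ha =>
      Subtype.ext (CIT.comm_of_elementary hWel ha hc))
    exact hcW (mem_centralizer_iff.2 fun a ha =>
      congrArg Subtype.val (mem_centralizer_iff.1 hc ⟨a, hWS ha⟩ ha))
  · exact fun a ha => Subtype.ext (CIT.sq_of_elementary hWel ha)
  · exact hTc.ge.trans (Nat.le_of_dvd Nat.card_pos (card_dvd_of_le hTS))

/-- Simple groups. -/
theorem card_simple [IsSimpleGroup G] (h : Ord G) (hns : ¬ Group.IsSolvable G) : Nat.card G = 168 := by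
  by_cases hTI : TISylow G
  · exact card_of_tiSylow h hns hTI
  have hO : CIT.NoCore G := by
    intro P hP hP2
    rcases hP.eq_bot_or_eq_top with e | e
    · exact e
    · exfalso
      subst e
      haveI := hP2.isNilpotent
      exact hns (Group.isSolvable_of_surjective (f := (Subgroup.topEquiv (G := G)).toMonoidHom) (Subgroup.topEquiv (G := G)).surjective)
  obtain ⟨T, W, A, q, hPair⟩ := CIT.exists_pair h.cit hO (CIT.localTI h.cit) hTI
  exact card_of_pair h hns hPair

end CfsgLib.Recog.SevenOrders
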