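import Cfsg.Agent.Lib.Recog.SevenOrders.Basic
import Cfsg.Agent.Lib.Transfer.MaximalClass
import Cfsg.Agent.Lib.TwoGroups.Recognition
import Cfsg.Agent.Lib.TwoGroups.SemiDihedralFusion
import Cfsg.Agent.Lib.ZStar.QuatSylow
import Cfsg.Agent.Lib.Components.Radicals
import Cfsg.Agent.S0508

/-!
# A simple group whose involution centralisers are 2-groups and whose Sylow 2-subgroup has a
self-centralising four-subgroup is a two-dimensional projective special linear group
-/

set_option autoImplicit false
set_option linter.all false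

open scoped Classical

namespace CfsgLib.Recog.SevenOrders

open Subgroup
open CfsgLib.TwoGroups

universe u

variable {G : Type u} [Group G] [Finite G]

theorem index_ne_two [IsSimpleGroup G] (hnc : ¬ Group.IsSolvable G) (H : Subgroup G) : H.index ≠ 2 := by
  intro h
  haveI := Subgroup.normal_of_index_eq_two h
  rcases (inferInstance : H.Normal).eq_bot_or_eq_top with e | e
  · rw [e, index_bot] at h
    haveI : Fact (Nat.Prime 2) := ⟨Nat.prime_two⟩
    haveI := isCyclic_of_prime_card (p := 2) h
    letI : CommGroup G := IsCyclic.commGroup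
    exact hnc inferInstance
  · rw [e, index_top] at h
    norm_num at h

/-- No semidihedral Sylow subgroup. -/
theorem not_quasiDihedral [IsSimpleGroup G] (hnc : ¬ Group.IsSolvable G) (hC : CIT.CIT G) (S : Sylow 2 G) :
    ¬ Cfsg.IsQuasiDihedral (S : Subgroup G) := by
  intro hqd
  obtain ⟨m, f, hf, hS⟩ := SemiDihedral.exists_model hqd
  obtain ⟨g, hg⟩ := isConj_iff.1 (SemiDihedral.fourFused_of_no_index_two hf hS (index_ne_two hnc))
  open SemiDihedral in
  have h1 : (ref 1 : SemiDihedral m) * ref 1 = rot (h m) := by rw [ref_sq, mul_one]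
  open SemiDihedral in
  have h2 : (rot (q m) : SemiDihedral m) * rot (q m) = rot (h m) := by rw [rot_mul_rot, q_add_q]
  set z := f (SemiDihedral.rot (SemiDihedral.h m))
  have hz2 : orderOf z = 2 := by
    rw [orderOf_injective f hf, SemiDihedral.orderOf_eq_two_iff]
    exact Or.inl rfl
  have hgz : g * z = z * g := by
    have e : g * z * g⁻¹ = z := by
      show g * f (SemiDihedral.rot (SemiDihedral.h m)) * g⁻¹ = f (SemiDihedral.rot (SemiDihedral.h m))
      nth_rw 1 [← h1]
      rw [← h2, map_mul, map_mul, ← hg]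
      group
    exact mul_inv_eq_iff_eq_mul.1 e
  have hgS : g ∈ (S : Subgroup G) := by
    have := S.is_maximal' (hC z hz2) (SemiDihedral.sylow_le_centralizer_h hS)
    exact this ▸ mem_centralizer_singleton_iff.2 hgz
  rw [← hS] at hgS
  obtain ⟨u, rfl⟩ := hgS
  rw [← map_inv, ← map_mul, ← map_mul] at hg
  have := congrArg SemiDihedral.e (hf hg)
  simp [SemiDihedral.mul_def, SemiDihedral.inv_def] at this

/-- The recognition. -/
theorem exists_psl [IsSimpleGroup G] (hnc : ¬ Group.IsSolvable G) (hC : CIT.CIT G) (S : Sylow 2 G)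
    (A : Subgroup (S : Subgroup G)) (hA : Nat.card A = 2 ^ 2) (hcA : centralizer (A : Set (S : Subgroup G)) = A)
    (hAe : ∀ a ∈ A, a * a = 1) (h8 : 8 ≤ Nat.card (S : Subgroup G)) :
    ∃ (F : Type) (_ : Field F) (_ : Fintype F),
      Nonempty (G ≃* Matrix.ProjectiveSpecialLinearGroup (Fin 2) F) := by
  haveI : Fact (Nat.Prime 2) := ⟨Nat.prime_two⟩
  obtain ⟨n, hn⟩ := S.isPGroup'.exists_card_eq
  have hn3 : 3 ≤ n := by
    by_contra h
    have := Nat.pow_le_pow_right two_pos (show n ≤ 2 by omega)
    omega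
  obtain ⟨a, b, ha, hb, hconj, hsq⟩ := Transfer.shape_of_class hn3 hn
    (Transfer.class_eq_of_self_centralizing n _ hn A hA hcA)
  have hN : (2 : ℕ) ^ (n - 2) * 2 = 2 ^ (n - 1) := by rw [← pow_succ]; congr 1; omega
  have hn' : (2 : ℕ) ^ n = 2 * 2 ^ (n - 1) := by rw [← pow_succ']; congr 1; omega
  rcases hconj with hinv | ⟨hn4, hsd⟩
  · rcases hsq with hb2 | hb2
    · obtain ⟨e⟩ := nonempty_mulEquiv_dihedralGroup (n := 2 ^ (n - 1)) ha (by rw [← pow_two, hb2]) hb hinv
        (hn.trans hn')
      haveI : Nontrivial (S : Subgroup G) := Finite.one_lt_card_iff_nontrivial.1 (by omega)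
      haveI := S.isPGroup'.center_nontrivial
      obtain ⟨w, hw⟩ := exists_prime_orderOf_dvd_card' (G := center (S : Subgroup G)) 2 (by
        obtain ⟨k, hk0, hk⟩ := (S.isPGroup'.to_subgroup _).nontrivial_iff_card.1 ‹_›
        exact hk ▸ dvd_pow_self 2 hk0.ne')
      set t : G := ((w : (S : Subgroup G)) : G)
      have ht : orderOf t = 2 := by rw [Subgroup.orderOf_coe, Subgroup.orderOf_coe, hw]
      have hO : Cfsg.oddCore (centralizer ({t} : Set G)) = ⊥ := by
        apply Subgroup.eq_bot_of_card_eq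
        obtain ⟨k, hk⟩ := ((hC t ht).to_subgroup (Cfsg.oddCore (centralizer ({t} : Set G)))).exists_card_eq
        have hcop := Components.pPrimeCore_coprime (G := centralizer ({t} : Set G)) 2
        rw [hk] at hcop ⊢
        rcases k with _ | k
        · rfl
        · exact absurd hcop (by rw [Nat.coprime_two_right, Nat.odd_iff, pow_succ]; omega)
      obtain ⟨F, iF, iFt, -, hF⟩ := Cfsg.Agent.S0508.result S (2 ^ (n - 1))
        (le_trans (by norm_num) (Nat.pow_le_pow_right two_pos (show 1 ≤ n - 1 by omega))) ⟨e⟩ t ht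
        (w : (S : Subgroup G)).2
        (fun s hs => congrArg Subtype.val (mem_center_iff.1 w.2 ⟨s, hs⟩)) ⊥
        (by rw [hO, Subgroup.map_bot]) (fun h => absurd rfl h)
        (fun s _ hs => absurd (by simp [mem_centralizer_iff]) hs)
        (fun Y hY hY1 => absurd (le_bot_iff.1 hY) hY1)
      exact ⟨F, iF, iFt, hF⟩
    · exfalso
      obtain ⟨e⟩ := nonempty_mulEquiv_quaternionGroup (n := 2 ^ (n - 2)) (ha.trans (by rw [← hN, mul_comm]))
        (by rw [← pow_two, hb2]) hb hinv (hn.trans (by rw [hn', ← hN]; ring))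
      obtain ⟨⟨u, hu⟩, hu1⟩ : ∃ u : A, u ≠ 1 := by
        haveI : Nontrivial A := Finite.one_lt_card_iff_nontrivial.1 (by omega)
        exact exists_ne 1
      have huo : orderOf (u : G) = 2 := by
        rw [Subgroup.orderOf_coe]
        exact orderOf_eq_prime (by rw [pow_two, hAe u hu]) fun h => hu1 (Subtype.ext h)
      have hsub : A ≤ zpowers u := fun v hv => by
        rcases eq_or_ne v 1 with rfl | hv1
        · exact one_mem _
        have hvo : orderOf (v : G) = 2 := by
          rw [Subgroup.orderOf_coe]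
          exact orderOf_eq_prime (by rw [pow_two, hAe v hv]) hv1
        have := CfsgLib.ZStar.unique_involution_of_le S e le_rfl v u
          (by rw [← Subgroup.orderOf_coe, hvo]) (by rw [← Subgroup.orderOf_coe, huo])
        exact this ▸ mem_zpowers _
      have hle := Nat.le_of_dvd Nat.card_pos (card_dvd_of_le hsub)
      rw [hA, Nat.card_zpowers, ← Subgroup.orderOf_coe, huo] at hle
      norm_num at hle
  · exfalso
    have hz : (a ^ 2 ^ (n - 2)) * (a ^ 2 ^ (n - 2)) = 1 := by
      rw [← pow_add, ← mul_two, hN, ← ha, pow_orderOf_eq_one]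
    have hexp : a ^ 2 ^ (n - 2) * a⁻¹ = a ^ (2 ^ (n - 1 - 1) - 1) := by
      rw [show n - 1 - 1 = n - 2 by omega, pow_sub _ Nat.one_le_two_pow, pow_one]
    have hconj' : ∀ c : (S : Subgroup G), c = b ∨ c = b * a →
        c * a * c⁻¹ = a ^ (2 ^ (n - 1 - 1) - 1) := by
      rintro c (rfl | rfl)
      · rw [hsd, hexp]
      · rw [← hexp, ← hsd]; group
    have key : ∀ c : (S : Subgroup G), c ∉ zpowers a → (c = b ∨ c = b * a) → c * c = 1 → False := by
      intro c hc hcb hc2
      refine not_quasiDihedral hnc hC S ⟨n - 1, by omega, by rw [hn]; congr 1; omega, a, c, ha,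
        orderOf_eq_prime (by rw [pow_two, hc2]) (fun h => hc (h ▸ one_mem _)), hconj' c hcb⟩
    rcases hsq with hb2 | hb2
    · exact key b hb (Or.inl rfl) (by rw [← pow_two, hb2])
    · refine key (b * a) (fun h => hb ?_) (Or.inr rfl) ?_
      · simpa using mul_mem h (inv_mem (mem_zpowers a))
      · have hcm : b ^ 2 * a = a * b ^ 2 := by rw [hb2]; exact ((Commute.refl a).pow_left _).eq
        calc b * a * (b * a) = (b * a * b⁻¹) * (b ^ 2 * a) := by rw [pow_two]; group
          _ = (a ^ 2 ^ (n - 2) * a⁻¹) * (a * b ^ 2) := by rw [hsd, hcm]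
          _ = a ^ 2 ^ (n - 2) * b ^ 2 := by group
          _ = 1 := by rw [hb2, hz]

end CfsgLib.Recog.SevenOrders
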